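import Groth.Agent.Lib.FundIso12.Smooth
import Groth.Agent.Lib.AutBound14.ExtPull
import Groth.Agent.Lib.Omega12.BaseChange
import Groth.Agent.Lib.Omega12.Exists
import Groth.Agent.Lib.DMV.Restrict
import Groth.Agent.Lib.CohMop.ClosedCounit

/-!
# The Ext sheaf of a closed subscheme over its smooth part
-/

set_option autoImplicit false
set_option linter.style.haveILetI false
set_option linter.unusedSectionVars false
set_option backward.isDefEq.respectTransparency false
set_option backward.isDefEq.respectTransparency.types false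
set_option maxHeartbeats 800000

universe u

open CategoryTheory CategoryTheory.Limits AlgebraicGeometry

noncomputable section

namespace Groth.Agent.LciSurf12

open Groth.Agent.FundIso12 (opush)

/-- Differentials restrict to open subschemes. -/
theorem nonempty_omega_restrict {P S : Scheme.{u}} (g : P ⟶ S) (V : P.Opens) [QuasiSeparated g]
    [QuasiSeparated (V.ι ≫ g)] [Smooth g] [Smooth (V.ι ≫ g)] :
    Nonempty ((Scheme.Modules.restrictFunctor V.ι).obj (Omega.sheaf g) ≅ Omega.sheaf (V.ι ≫ g)) := by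
  have hd := Omega12.isUniversal_dOmega (f := g)
  have hd' := Omega12.isUniversal_dOmega (f := V.ι ≫ g)
  obtain ⟨c, hc, -⟩ := Omega12.existsUnique_diffCompat (h := V.ι) (b := 𝟙 S) (f' := V.ι ≫ g) (f := g)
    (by simp) hd (OmegaSh.dOmega (V.ι ≫ g))
  haveI := Omega12.isIso_diffCompat_of_etale (h := V.ι) (b := 𝟙 S) (by simp) hd hd' c hc
  exact ⟨(Scheme.Modules.restrictFunctorIsoPullback V.ι).app _ ≪≫ asIso c⟩

/-- If `ι_*ω` is the Ext sheaf of the ambient top forms then `ω` gives the top forms over a smooth open part. -/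
theorem nonempty_restrict_iso {S P X : Scheme.{u}} [IsLocallyNoetherian S] (g : P ⟶ S) (ι : X ⟶ P)
    [IsClosedImmersion ι] (n r : ℕ) [SmoothOfRelativeDimension n g] (V : P.Opens)
    [SmoothOfRelativeDimension r ((ι ⁻¹ᵁ V).ι ≫ ι ≫ g)] [HasInjectiveResolutions P.Modules]
    (ΩP : P.Modules) (hΩP : ExtPow.IsExtPow n (Omega.sheaf g) ΩP)
    (W : ((ι ⁻¹ᵁ V) : Scheme.{u}).Modules)
    (hW : ExtPow.IsExtPow r (Omega.sheaf ((ι ⁻¹ᵁ V).ι ≫ ι ≫ g)) W)
    (ω : X.Modules)
    (e : haveI := fun Q : P.Modules => CohMop.additive_ihom Q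
      (Scheme.Modules.pushforward ι).obj ω ≅ ((CohMop.ihom (opush ι)).rightDerived (n - r)).obj ΩP) :
    Nonempty ((Scheme.Modules.restrictFunctor (ι ⁻¹ᵁ V).ι).obj ω ≅ W) := by
  haveI := fun Q : P.Modules => CohMop.additive_ihom Q
  haveI := fun Q : (V : Scheme.{u}).Modules => CohMop.additive_ihom Q
  haveI : Smooth g := SmoothOfRelativeDimension.smooth n g
  haveI : IsLocallyNoetherian P := LocallyOfFiniteType.isLocallyNoetherian g
  haveI : SmoothOfRelativeDimension (0 + n) (V.ι ≫ g) := inferInstance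
  haveI : SmoothOfRelativeDimension n (V.ι ≫ g) := by simpa using ‹SmoothOfRelativeDimension (0 + n) (V.ι ≫ g)›
  haveI : Smooth (V.ι ≫ g) := SmoothOfRelativeDimension.smooth n _
  haveI := FundIso12.quasiSeparated_of_isLocallyNoetherian g
  haveI : IsLocallyNoetherian (V : Scheme.{u}) := LocallyOfFiniteType.isLocallyNoetherian V.ι
  haveI := FundIso12.quasiSeparated_of_isLocallyNoetherian (V.ι ≫ g)
  have hw : (ι ∣_ V) ≫ V.ι ≫ g = (ι ⁻¹ᵁ V).ι ≫ ι ≫ g := by
    rw [← Category.assoc, morphismRestrict_ι, Category.assoc]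
  haveI : SmoothOfRelativeDimension r ((ι ∣_ V) ≫ V.ι ≫ g) := by rw [hw]; infer_instance
  obtain ⟨a⟩ := nonempty_omega_restrict g V
  have hΩV : ExtPow.IsExtPow n (Omega.sheaf (V.ι ≫ g)) ((Scheme.Modules.restrictFunctor V.ι).obj ΩP) :=
    AutBound14.isExtPow_of_iso (AutBound14.isExtPow_restrict hΩP V.ι) a (Iso.refl _)
  haveI : ModSite.HasSheafHom (O := (V : Scheme.{u}).sheaf) (opush (ι ∣_ V)) := CohMop.isLeftAdjoint_tenR _
  haveI : HasInjectiveResolutions (ModSite.Mod (V : Scheme.{u}).sheaf) :=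
    inferInstanceAs (HasInjectiveResolutions (V : Scheme.{u}).Modules)
  have hW' : ExtPow.IsExtPow r (Omega.sheaf ((ι ∣_ V) ≫ V.ι ≫ g)) W := by rw [hw]; exact hW
  obtain ⟨t⟩ := FundIso12.nonempty_topForms_iso (V.ι ≫ g) (ι ∣_ V) n r _ hΩV W hW'
  let q : (Scheme.Modules.restrictFunctor V.ι).obj (opush ι) ≅ opush (ι ∣_ V) :=
    M1.pushRestrictIso (isPullback_morphismRestrict ι V) _ ≪≫
      (Scheme.Modules.pushforward (ι ∣_ V)).mapIso (Scheme.Modules.restrictUnitIso (ι ⁻¹ᵁ V).ι)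
  let q' := (injectiveResolution ((Scheme.Modules.restrictFunctor V.ι).obj ΩP)).isoRightDerivedObj
      (CohMop.ihom ((Scheme.Modules.restrictFunctor V.ι).obj (opush ι))) (n - r) ≪≫
    (HomologicalComplex.homologyFunctor _ _ (n - r)).mapIso ((NatIso.mapHomologicalComplex (CohMop.ihomIso q) _).app _) ≪≫
    ((injectiveResolution ((Scheme.Modules.restrictFunctor V.ι).obj ΩP)).isoRightDerivedObj
      (CohMop.ihom (opush (ι ∣_ V))) (n - r)).symm
  let z : (Scheme.Modules.pushforward (ι ∣_ V)).obj ((Scheme.Modules.restrictFunctor (ι ⁻¹ᵁ V).ι).obj ω) ≅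
      (Scheme.Modules.pushforward (ι ∣_ V)).obj W :=
    ((DMV.pushResIso ι V).app ω).symm ≪≫ (Scheme.Modules.restrictFunctor V.ι).mapIso e ≪≫
      (CohMop.restrictExtIso V (opush ι) (n - r)).app ΩP ≪≫ q' ≪≫ t.symm
  haveI := CohMop.isIso_counit_closedImmersion (ι ∣_ V) W
  haveI := CohMop.isIso_counit_closedImmersion (ι ∣_ V) ((Scheme.Modules.restrictFunctor (ι ⁻¹ᵁ V).ι).obj ω)
  exact ⟨(@asIso _ _ _ _ _ (CohMop.isIso_counit_closedImmersion (ι ∣_ V)
      ((Scheme.Modules.restrictFunctor (ι ⁻¹ᵁ V).ι).obj ω))).symm ≪≫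
    (Scheme.Modules.pullback (ι ∣_ V)).mapIso z ≪≫
    asIso ((Scheme.Modules.pullbackPushforwardAdjunction (ι ∣_ V)).counit.app W)⟩

end Groth.Agent.LciSurf12
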